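import Cfsg.Agent.Lib.Block.FischerTypes.M22Thompson.Data
import Cfsg.Agent.Lib.Grp.M22Local.Checks

/-! Facts on the Sylow subgroup of the stabiliser of a plane, decided on the numbers. -/

set_option autoImplicit false
set_option maxRecDepth 100000
set_option maxHeartbeats 4000000

namespace Cfsg.Agent.Block.FischerTypes.M22Thompson

open Cfsg.Agent.Block.FischerTypes.U6Code
open Cfsg.Agent.Grp.M22Local (base7)

/-- A point of the plane. -/
def pl (i : ℕ) : ℕ := plane.getD i 0

/-- Its coordinates. -/
def vecAt (i : ℕ) : ℕ := vecs.getD i 0

/-- The indices of the basis. -/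
def basIdx : List ℕ := bas.map fun b => plane.findIdx (Nat.beq b)

/-- The points of a sum. -/
def subW : List ℕ → ℕ → List ℕ
  | [], _ => []
  | b :: r, S => cond (S.testBit 0) (b :: subW r (S >>> 1)) (subW r (S >>> 1))

/-- A word for an element. -/
def word (j : ℕ) : List ℕ := (codes.getD j []).flatMap fun g => gens.getD g []

/-- The permutation of an element. -/
def perm (j i : ℕ) : ℕ := (perms.getD j 0 >>> (5 * i)) &&& 31

/-- The image of a sum. -/
def linW (j : ℕ) : List ℕ → ℕ → ℕ
  | [], _ => 0
  | i :: r, S => cond (S.testBit 0) (vecAt (perm j i) ^^^ linW j r (S >>> 1)) (linW j r (S >>> 1))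

/-- The sums fixed by an element. -/
def fixMask (j : ℕ) : ℕ := fixMasks.getD j 0

/-- The product. -/
def mulIdx (k l : ℕ) : ℕ := (prods.getD k 0 >>> (6 * l)) &&& 63

/-- The number of sums in a set that occurs. -/
def popcount (F : ℕ) : ℕ :=
  match counts.find? (fun e => Nat.beq e.1 F) with
  | some e => e.2
  | none => 513

/-- May `k` be the least element of a coset enlarging the elementary group with generators `gs`? -/
def joins (last : ℕ) (gs L : List ℕ) (k : ℕ) : Bool :=
  Nat.blt last k && !(L.contains k) && (gs.all fun g => Nat.beq (mulIdx k g) (mulIdx g k)) &&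
    L.all fun l => Nat.ble k (mulIdx k l) || L.contains (mulIdx k l)

/-- Every elementary group over the given one is small. -/
def grow : ℕ → ℕ → List ℕ → List ℕ → ℕ → Bool
  | 0, _, _, _, _ => false
  | n + 1, last, gs, L, F => (Nat.ble L.length 1 || Nat.ble (L.length * popcount F) 256) &&
      invs.all fun k => !(joins last gs L k) ||
        grow n k (k :: gs) (L ++ L.map (mulIdx k)) (F &&& fixMask k)

/-- The fixed sums of the elements in a range. -/
def fixChunk (a : ℕ) : Bool := (List.range 8).all fun j => (List.range 512).all fun S =>
  (fixMask (8 * a + j)).testBit S == Nat.beq (linW (8 * a + j) basIdx S) S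

theorem pl_ok : (Nat.beq plane.length 21 && Nat.beq bas.length 9 && Nat.beq gens.length 6 &&
    plane.all isPt && (gens.all fun g => g.all isPt) &&
    (plane.all fun x => plane.all fun y => adj x y) &&
    ((List.range 21).all fun i => (List.range 21).all fun k => Nat.beq i k || !(Nat.beq (pl i) (pl k)))) = true := by
  decide +kernel

theorem bas_ok : basIdx.map pl = bas ∧ (basIdx.all fun i => Nat.blt i 21) = true ∧ word 0 = [] := by
  decide +kernel

theorem vec_ok : ((List.range 21).all fun i => Nat.blt (vecAt i) 512 &&
    base7.all fun q => Nat.beq (act [pl i] q) (act (subW bas (vecAt i)) q)) = true := by decide +kernel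

theorem inj_ok : ((List.range 512).all fun S => Nat.beq S 0 ||
    base7.any fun q => !(Nat.beq (act (subW bas S) q) q)) = true := by decide +kernel

theorem code_ok : ((List.range 64).all fun j => (codes.getD j []).all fun g => Nat.blt g 6) = true := by
  decide +kernel

theorem perm_ok : ((List.range 64).all fun j => (List.range 21).all fun i =>
    Nat.blt (perm j i) 21 && Nat.beq (act (word j) (pl i)) (pl (perm j i))) = true := by decide +kernel

theorem perm_inj : ((List.range 64).all fun j => (List.range 64).all fun k => Nat.beq j k ||
    (List.range 21).any fun i => !(Nat.beq (perm j i) (perm k i))) = true := by decide +kernel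

theorem closing_ok : ((List.range 64).all fun j => (List.range 6).all fun g =>
    Nat.blt ((closing.getD j []).getD g (0, 0)).1 64 && Nat.blt ((closing.getD j []).getD g (0, 0)).2 512 &&
      base7.all fun q => Nat.beq (act (word j ++ gens.getD g []) q)
        (act (word ((closing.getD j []).getD g (0, 0)).1 ++ subW bas ((closing.getD j []).getD g (0, 0)).2) q)) =
    true := by decide +kernel

theorem mul_ok : ((List.range 64).all fun k => (List.range 64).all fun l => Nat.blt (mulIdx k l) 64 &&
    (List.range 21).all fun i => Nat.beq (perm (mulIdx k l) i) (perm l (perm k i))) = true := by decide +kernel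

theorem fix0_ok : fixChunk 0 = true := by decide +kernel

theorem fix1_ok : fixChunk 1 = true := by decide +kernel

theorem fix2_ok : fixChunk 2 = true := by decide +kernel

theorem fix3_ok : fixChunk 3 = true := by decide +kernel

theorem fix4_ok : fixChunk 4 = true := by decide +kernel

theorem fix5_ok : fixChunk 5 = true := by decide +kernel

theorem fix6_ok : fixChunk 6 = true := by decide +kernel

theorem fix7_ok : fixChunk 7 = true := by decide +kernel

theorem invs_ok : ((List.range 64).all fun k => Nat.beq k 0 || !(Nat.beq (mulIdx k k) 0) || invs.contains k) = true := by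
  decide +kernel

theorem counts_ok : (counts.all fun e => Nat.beq ((List.range 512).filter fun S => e.1.testBit S).length e.2) = true := by
  decide +kernel

theorem grow_ok : grow 6 0 [] [0] (2 ^ 512 - 1) = true := by decide +kernel

theorem tri_ok : ((List.range 21).all fun i => (List.range 21).all fun k => Nat.beq i k ||
    (List.range 21).all fun l => !(Nat.beq (vecAt i ^^^ vecAt k) (vecAt l))) = true := by decide +kernel

theorem sep_ok : ((List.range 21).all fun e => (List.range 21).any fun p => !(Nat.beq p e) &&
    (List.range 21).any fun q => !(Nat.beq q e) && !(Nat.beq q p) && ptList.any fun y =>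
      adj (pl p) y && !(Nat.beq y (pl p)) && (adj y (pl q) != adj y (pl e))) = true := by decide +kernel

end Cfsg.Agent.Block.FischerTypes.M22Thompson
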