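import Cfsg.Agent.Lib.Block.FischerTypes.M22Thompson.Rank
import Cfsg.Agent.Lib.Block.FischerTypes.M22Involutions
import Cfsg.Agent.Lib.Block.FischerTypes.M22Counts

/-! The members in a Sylow two-subgroup of a group of type M(22) generate its Thompson subgroup. -/

set_option autoImplicit false
set_option linter.style.haveILetI false
set_option linter.unusedSectionVars false

namespace Cfsg.Agent.Block.FischerTypes.M22Thompson

open Cfsg Cfsg.Agent.Spor.ThreeTrans Cfsg.Agent.Block.FischerTypes.U6Code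

variable {G : Type*} [Group G] [Finite G] {D : Set G}

theorem commute_in_two_group (h : IsThreeTranspositionClass D) {T : Subgroup G} (hT : IsPGroup 2 ↥T)
    {x y : G} (hx : x ∈ D) (hy : y ∈ D) (hxT : x ∈ T) (hyT : y ∈ T) : Commute x y := by
  rcases h.1.2 x hx y hy with k | k
  · exact commute_of_sq h hx hy k
  · obtain ⟨n, hn⟩ := hT ⟨x * y, T.mul_mem hxT hyT⟩
    have hn' : (x * y) ^ 2 ^ n = 1 := congrArg Subtype.val hn
    have hg : Nat.gcd (2 ^ n) 3 = 1 := Nat.Coprime.pow_left n (by norm_num)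
    have h1 := Nat.dvd_gcd (orderOf_dvd_of_pow_eq_one hn') (orderOf_dvd_of_pow_eq_one k)
    rw [hg, Nat.dvd_one, orderOf_eq_one_iff] at h1
    have e : x = y := by rw [eq_inv_of_mul_eq_one_left h1, inv_eq h.1 hy]
    rw [e]

variable (C : M22.Ctx D)
include C

theorem std {a : G} (ha : a ∈ D) : Std D a := ⟨C.set.cls, ha, M22.card_centralizer C ha⟩

theorem fac_group : (Nat.card G).factorization 2 = 17 := by
  rw [M22.card_group C (M22.numbered_ctx C), show 64561751654400 = 2 ^ 17 * 492567075 by norm_num,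
    Nat.factorization_mul (by norm_num) (by norm_num), Finsupp.add_apply, Nat.prime_two.factorization_pow,
    Nat.factorization_eq_zero_of_not_dvd (by norm_num)]
  simp

theorem card_sylow (T : Sylow 2 G) : Nat.card ↥(T : Subgroup G) = 2 ^ 17 := by
  haveI : Fact (Nat.Prime 2) := ⟨Nat.prime_two⟩
  rw [T.card_eq_multiplicity, fac_group C]

/-- A Sylow two-subgroup has an orbit of two members. -/
theorem exists_pair (T : Sylow 2 G) : ∃ a e, a ∈ D ∧ e ∈ D ∧ a ≠ e ∧
    (∀ t ∈ (T : Subgroup G), t * a * t⁻¹ = a ∨ t * a * t⁻¹ = e) ∧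
    (∃ t ∈ (T : Subgroup G), t * a * t⁻¹ = e) ∧
    Nat.card ↥((T : Subgroup G) ⊓ Subgroup.centralizer ({a} : Set G)) = 2 ^ 16 := by
  haveI : Fact (Nat.Prime 2) := ⟨Nat.prime_two⟩
  have h := C.set.cls
  letI : MulAction ↥(T : Subgroup G) ↥D :=
    { smul := fun t x => ⟨(t : G) * x * (t : G)⁻¹, conj_mem h t x.2⟩
      one_smul := fun x => Subtype.ext (by show ((1 : ↥(T : Subgroup G)) : G) * x * _ = x; simp)
      mul_smul := fun t u x => Subtype.ext (by
        show ((t * u : ↥(T : Subgroup G)) : G) * x * _ = (t : G) * ((u : G) * x * (u : G)⁻¹) * (t : G)⁻¹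
        simp [mul_assoc]) }
  have hD := M22.ncard_eq C (M22.numbered_ctx C)
  have hex : ∃ x : ↥D, Nat.card (MulAction.orbit ↥(T : Subgroup G) x) ≤ 2 := by
    by_contra hno
    push Not at hno
    classical
    haveI := Fintype.ofFinite ↥D
    have hsum := Nat.card_congr (MulAction.selfEquivSigmaOrbits ↥(T : Subgroup G) ↥D)
    rw [Nat.card_coe_set_eq, hD] at hsum
    haveI := Fintype.ofFinite (MulAction.orbitRel.Quotient ↥(T : Subgroup G) ↥D)
    rw [Nat.card_sigma] at hsum
    have h4 : ∀ q : MulAction.orbitRel.Quotient ↥(T : Subgroup G) ↥D,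
        4 ∣ Nat.card (MulAction.orbit ↥(T : Subgroup G) q.out) := by
      intro q
      have hdvd : Nat.card (MulAction.orbit ↥(T : Subgroup G) q.out) ∣ Nat.card ↥(T : Subgroup G) := by
        rw [Nat.card_congr (MulAction.orbitEquivQuotientStabilizer _ _)]
        exact Subgroup.card_quotient_dvd_card _
      rw [card_sylow C T] at hdvd
      obtain ⟨m, -, hm⟩ := (Nat.dvd_prime_pow Nat.prime_two).mp hdvd
      have := hno q.out
      rw [hm] at this ⊢
      rcases m with _ | _ | m
      · simp at this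
      · simp at this
      · exact ⟨2 ^ m, by ring⟩
    have : 4 ∣ 3510 := by rw [hsum]; exact Finset.dvd_sum fun q _ => h4 q
    omega
  obtain ⟨⟨a, ha⟩, hle⟩ := hex
  have hst := Subgroup.index_mul_card (MulAction.stabilizer ↥(T : Subgroup G) (⟨a, ha⟩ : ↥D))
  rw [MulAction.index_stabilizer, card_sylow C T, ← Nat.card_coe_set_eq] at hst
  have hmap : Nat.card ↥(MulAction.stabilizer ↥(T : Subgroup G) (⟨a, ha⟩ : ↥D)) =
      Nat.card ↥((T : Subgroup G) ⊓ Subgroup.centralizer ({a} : Set G)) := by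
    refine Nat.card_congr
      { toFun := fun t => ⟨(t : ↥(T : Subgroup G)), (t : ↥(T : Subgroup G)).2,
          Subgroup.mem_centralizer_singleton_iff.mpr
            (mul_inv_eq_iff_eq_mul.mp (congrArg Subtype.val (t.2 : (t : ↥(T : Subgroup G)) • (⟨a, ha⟩ : ↥D) = _)))⟩
        invFun := fun t => ⟨⟨t, t.2.1⟩, Subtype.ext (conj_self_eq (Subgroup.mem_centralizer_singleton_iff.mp t.2.2))⟩
        left_inv := fun t => rfl
        right_inv := fun t => rfl }
  rw [hmap] at hst
  have hdle : Nat.card ↥((T : Subgroup G) ⊓ Subgroup.centralizer ({a} : Set G)) ≤ 2 ^ 16 := by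
    obtain ⟨m, hm⟩ := IsPGroup.iff_card.mp (T.2.to_le
      (inf_le_left : (T : Subgroup G) ⊓ Subgroup.centralizer ({a} : Set G) ≤ (T : Subgroup G)))
    have hd := Subgroup.card_dvd_of_le
      (inf_le_right : (T : Subgroup G) ⊓ Subgroup.centralizer ({a} : Set G) ≤ _)
    rw [M22.card_centralizer C ha, hm] at hd
    rw [hm]
    refine Nat.pow_le_pow_right (by norm_num) ?_
    by_contra hlt
    have := (Nat.pow_dvd_pow 2 (show 17 ≤ m by omega)).trans hd
    norm_num at this
  have h2 : Nat.card (MulAction.orbit ↥(T : Subgroup G) (⟨a, ha⟩ : ↥D)) = 2 := by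
    nlinarith
  have hcard : Nat.card ↥((T : Subgroup G) ⊓ Subgroup.centralizer ({a} : Set G)) = 2 ^ 16 := by
    rw [h2] at hst
    omega
  rw [Nat.card_coe_set_eq] at h2
  obtain ⟨e, he, hne⟩ := Set.exists_ne_of_one_lt_ncard (by rw [h2]; norm_num) (⟨a, ha⟩ : ↥D)
  have hins : MulAction.orbit ↥(T : Subgroup G) (⟨a, ha⟩ : ↥D) = {⟨a, ha⟩, e} := by
    refine (Set.eq_of_subset_of_ncard_le ?_ (by rw [h2, Set.ncard_pair (Ne.symm hne)])).symm
    rintro x (rfl | rfl)
    exacts [MulAction.mem_orbit_self _, he]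
  refine ⟨a, e, ha, e.2, fun k => hne (Subtype.ext k.symm), fun t ht => ?_, ?_, hcard⟩
  · have : (⟨t, ht⟩ : ↥(T : Subgroup G)) • (⟨a, ha⟩ : ↥D) ∈ MulAction.orbit _ _ := MulAction.mem_orbit _ _
    rw [hins] at this
    rcases this with k | k
    · exact Or.inl (congrArg Subtype.val k)
    · exact Or.inr (congrArg Subtype.val k)
  · obtain ⟨t, ht⟩ := he
    exact ⟨t, t.2, congrArg Subtype.val ht⟩

/-- The shape of a Sylow two-subgroup. -/
theorem shape (T : Sylow 2 G) : ∃ (a : G) (s : Std D a) (M : Model D a), P s M ≤ (T : Subgroup G) ∧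
    ∃ e, e < 21 ∧ (∀ t ∈ (T : Subgroup G), ¬ Commute t a → t * a * t⁻¹ = M.pt (pl e)) ∧
    (∀ t ∈ (T : Subgroup G), Commute t a → t ∈ P s M) ∧
    ({x | x ∈ D ∧ x ∈ (T : Subgroup G)} : Set G) = insert a {x | ∃ i < 21, M.pt (pl i) = x} := by
  classical
  have h := C.set.cls
  obtain ⟨a, e, ha, he, hne, horb, ⟨t, ht, hte⟩, hcard⟩ := exists_pair C T
  obtain ⟨M₀⟩ := M22.numbered_ctx C a ha
  have s := std C ha
  obtain ⟨M, hM⟩ := exists_model_sylow s M₀ inf_le_right hcard
  have hPT : P s M ≤ (T : Subgroup G) := hM.trans_le inf_le_left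
  have haT : a ∈ (T : Subgroup G) := hPT (E_le s M (a_mem_E s M))
  have heT : e ∈ (T : Subgroup G) := hte ▸ mul_mem (mul_mem ht haT) (inv_mem ht)
  let S : Set G := {x | ∃ i < 21, M.pt (pl i) = x}
  have hS : S ⊆ perp D a := by rintro x ⟨i, hi, rfl⟩; exact M.mem _ (plane_pt hi)
  have hScard : S.ncard = 21 := by
    have e1 : S = ↑((Finset.range 21).image fun i => M.pt (pl i)) := by
      ext x; simp [S]
    rw [e1, Set.ncard_coe_finset, Finset.card_image_of_injOn, Finset.card_range]
    intro i hi k hk e2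
    exact pl_inj (Finset.mem_range.mp hi) (Finset.mem_range.mp hk)
      (M.inj _ _ (plane_pt (Finset.mem_range.mp hi)) (plane_pt (Finset.mem_range.mp hk)) e2)
  have hsub : {x | x ∈ D ∧ x ∈ (T : Subgroup G) ∧ x ≠ a} = S := by
    symm
    refine Set.eq_of_subset_of_ncard_le ?_ ?_
    · rintro x ⟨i, hi, rfl⟩
      exact ⟨(M.mem _ (plane_pt hi)).1, hPT (E_le s M (pt_mem_E s M hi)), (M.mem _ (plane_pt hi)).2.1⟩
    · rw [hScard]
      refine M22.clique_le C M ?_ ?_
      · rintro x ⟨hx, hxT, hxa⟩
        exact ⟨hx, hxa, commute_in_two_group h T.2 ha hx haT hxT⟩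
      · rintro x ⟨hx, hxT, -⟩ y ⟨hy, hyT, -⟩
        exact commute_in_two_group h T.2 hx hy hxT hyT
  obtain ⟨i, hi, hie⟩ : e ∈ S := hsub ▸ ⟨he, heT, hne.symm⟩
  refine ⟨a, s, M, hPT, i, hi, fun u hu hua => ?_, fun u hu hua => ?_, ?_⟩
  · rw [hie]
    exact (horb u hu).resolve_left fun k => hua (mul_inv_eq_iff_eq_mul.mp k)
  · rw [hM]
    exact ⟨hu, Subgroup.mem_centralizer_singleton_iff.mpr hua.eq⟩
  · ext x
    constructor
    · rintro ⟨hx, hxT⟩
      by_cases k : x = a
      · exact Or.inl k
      · exact Or.inr ((Set.ext_iff.mp hsub x).mp ⟨hx, hxT, k⟩)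
    · rintro (rfl | hx)
      · exact ⟨ha, haT⟩
      · rw [show ({x | ∃ i < 21, M.pt (pl i) = x} : Set G) = S from rfl, ← hsub] at hx
        exact ⟨hx.1, hx.2.1⟩

theorem no_fixed_hyperplane {a : G} (s : Std D a) (M : Model D a) {e : ℕ} (he : e < 21) {x : G}
    (hx : x * a * x⁻¹ = M.pt (pl e))
    (hfix : ∀ i < 21, i ≠ e → Commute x (M.pt (pl i))) : False := by
  classical
  have h := C.set.cls
  have hsep := sep_ok
  simp only [List.all_eq_true, List.any_eq_true, List.mem_range, Bool.and_eq_true, Bool.not_eq_true'] at hsep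
  obtain ⟨p, hp, hpe, q, hq, ⟨hqe, hqp⟩, y, hy, ⟨hpy, hyp⟩, hne⟩ := hsep e he
  have hypt := mem_ptList.mp hy
  have mp := M.mem _ (plane_pt hp)
  have mq := M.mem _ (plane_pt hq)
  have hqc : M.pt (pl q) ∈ common D a (M.pt (pl p)) :=
    ⟨mq, mq.1, fun k => Nat.ne_of_beq_eq_false hqp (pl_inj hq hp (M.inj _ _ (plane_pt hq) (plane_pt hp) k)),
      (M.comm _ _ (plane_pt hp) (plane_pt hq)).2 (plane_adj hp hq)⟩
  obtain ⟨T, -, -, hT, hTc, hT1⟩ := hexad C.set C.cen C.hex s.mem mp hqc
  have hyc : M.pt y ∈ common D a (M.pt (pl p)) :=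
    ⟨M.mem _ hypt, (M.mem _ hypt).1, fun k => Nat.ne_of_beq_eq_false hyp (M.inj _ _ hypt (plane_pt hp) k),
      (M.comm _ _ (plane_pt hp) hypt).2 hpy⟩
  have hcl : ∀ t ∈ T, ∃ i < 21, i ≠ e ∧ M.pt (pl i) = t := by
    intro t ht
    obtain ⟨htc, htw⟩ := (hT t).mp ht
    have hin : ∀ i < 21, Commute (M.pt (pl i)) t := by
      intro i hi
      by_cases hip : i = p
      · rw [hip]; exact htc.2.2.2
      · refine (htw _ ⟨M.mem _ (plane_pt hi), (M.mem _ (plane_pt hi)).1, fun k => hip (pl_inj hi hp
            (M.inj _ _ (plane_pt hi) (plane_pt hp) k)), (M.comm _ _ (plane_pt hp) (plane_pt hi)).2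
            (plane_adj hp hi)⟩).mp ?_
        exact (M.comm _ _ (plane_pt hi) (plane_pt hq)).2 (plane_adj hi hq)
    obtain ⟨i, hi, hit⟩ : ∃ i < 21, M.pt (pl i) = t := by
      by_contra hno
      push Not at hno
      let S : Set G := {z | ∃ i < 21, M.pt (pl i) = z}
      have hSc : S.ncard = 21 := by
        have e1 : S = ↑((Finset.range 21).image fun i => M.pt (pl i)) := by
          ext z; simp [S]
        rw [e1, Set.ncard_coe_finset, Finset.card_image_of_injOn, Finset.card_range]
        intro i hi k hk e2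
        exact pl_inj (Finset.mem_range.mp hi) (Finset.mem_range.mp hk)
          (M.inj _ _ (plane_pt (Finset.mem_range.mp hi)) (plane_pt (Finset.mem_range.mp hk)) e2)
      have hle := M22.clique_le C M (E := insert t S) ?_ ?_
      · have hnS : t ∉ S := by rintro ⟨i, hi, k⟩; exact hno i hi k
        rw [Set.ncard_insert_of_notMem hnS, hSc] at hle
        omega
      · rintro z (rfl | ⟨i, hi, rfl⟩)
        exacts [htc.1, M.mem _ (plane_pt hi)]
      · rintro z (rfl | ⟨i, hi, rfl⟩) w (rfl | ⟨k, hk, rfl⟩)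
        exacts [Commute.refl _, (hin k hk).symm, hin i hi,
          (M.comm _ _ (plane_pt hi) (plane_pt hk)).2 (plane_adj hi hk)]
    refine ⟨i, hi, fun k => ?_, hit⟩
    have hiff := htw _ hyc
    rw [← hit, k, M.comm _ _ hypt (plane_pt hq), M.comm _ _ hypt (plane_pt he)] at hiff
    have hn : adj y (pl q) ≠ adj y (pl e) := by simpa using hne
    exact hn (by cases h1 : adj y (pl q) <;> cases h2 : adj y (pl e) <;> simp_all)
  have hxp : Commute x (M.pt (pl p)) := hfix p hp (Nat.ne_of_beq_eq_false hpe)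
  have hxT : Commute x T.prod := Commute.list_prod_right _ _ fun t ht => by
    obtain ⟨i, hi, hne', rfl⟩ := hcl t ht
    exact hfix i hi hne'
  have ea : a = (M.pt (pl p) * T.prod)⁻¹ := eq_inv_of_mul_eq_one_left (by rw [← mul_assoc]; exact hT1)
  have hxa : Commute x a := by rw [ea]; exact (hxp.mul_right hxT).inv_right
  rw [conj_self_eq hxa] at hx
  exact (M.mem _ (plane_pt he)).2.1 hx.symm

/-- The members in a Sylow two-subgroup generate its Thompson subgroup. -/
theorem closure_eq (T : Sylow 2 G) : Subgroup.closure {x : G | x ∈ D ∧ x ∈ (T : Subgroup G)} =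
    thompsonSubgroupOf 2 (T : Subgroup G) := by
  classical
  have h := C.set.cls
  obtain ⟨a, s, M, hPT, e, he, hswap, hstab, hset⟩ := shape C T
  have hE : Subgroup.closure {x : G | x ∈ D ∧ x ∈ (T : Subgroup G)} = E s M := by
    rw [hset]
    refine le_antisymm ((Subgroup.closure_le _).mpr ?_) ?_
    · rintro x (rfl | ⟨i, hi, rfl⟩)
      exacts [a_mem_E s M, pt_mem_E s M hi]
    · have key : ∀ S, eS M S ∈ Subgroup.closure (insert a {x | ∃ i < 21, M.pt (pl i) = x}) := by
        intro S
        have : ∀ w : List ℕ, (∀ x ∈ w, x ∈ bas) →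
            Cfsg.Agent.Grp.M22Local.el M w ∈ Subgroup.closure (insert a {x | ∃ i < 21, M.pt (pl i) = x}) := by
          intro w
          induction w with
          | nil => intro _; exact one_mem _
          | cons p w ih =>
            intro hw
            refine mul_mem (ih fun x hx => hw x (List.mem_cons_of_mem _ hx)) (Subgroup.subset_closure (Or.inr ?_))
            obtain ⟨i, hi, hip⟩ := bas_plane (hw p List.mem_cons_self)
            exact ⟨i, hi, by rw [hip]⟩
        exact this _ (subW_sub bas S)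
      rintro g ⟨S, -, rfl | rfl⟩
      · exact key S
      · exact mul_mem (Subgroup.subset_closure (Or.inl rfl)) (key S)
  have hET : E s M ≤ (T : Subgroup G) := (E_le s M).trans hPT
  have hnorm : ∀ t ∈ (T : Subgroup G), ∀ g ∈ E s M, t * g * t⁻¹ ∈ E s M := by
    intro t ht g hg
    have hle : E s M ≤ Subgroup.comap (MulAut.conj t).toMonoidHom (E s M) := by
      rw [← hE]
      refine (Subgroup.closure_le _).mpr fun x hx => ?_
      exact Subgroup.subset_closure ⟨conj_mem h t hx.1, T.1.mul_mem (T.1.mul_mem ht hx.2) (T.1.inv_mem ht)⟩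
    exact hle hg
  have hcardE : Nat.card ↥(E s M) = 1024 := le_antisymm (card_E_le s M) (card_E_ge s M)
  have main : ∀ A : Subgroup G, A ≤ (T : Subgroup G) → (∀ x ∈ A, ∀ y ∈ A, Commute x y) →
      (∀ x ∈ A, x * x = 1) → A ≤ E s M ∨ Nat.card ↥A < 1024 := by
    intro A hA hc h2
    let A₀ := A ⊓ Subgroup.centralizer ({a} : Set G)
    have hA₀P : A₀ ≤ P s M := fun x hx =>
      hstab x (hA hx.1) (Subgroup.mem_centralizer_singleton_iff.mp hx.2)
    have hA₀c : ∀ x ∈ A₀, ∀ y ∈ A₀, Commute x y := fun x hx y hy => hc x hx.1 y hy.1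
    have hA₀2 : ∀ x ∈ A₀, x * x = 1 := fun x hx => h2 x hx.1
    by_cases hall : A ≤ Subgroup.centralizer ({a} : Set G)
    · by_cases hsub : A ≤ E s M
      · exact Or.inl hsub
      · right
        have hAP : A ≤ P s M := fun x hx => hA₀P ⟨hx, hall hx⟩
        have := (small s M hAP hc h2 hsub).1
        omega
    right
    obtain ⟨x, hxA, hxa⟩ := SetLike.not_le_iff_exists.mp hall
    have hxa' : ¬ Commute x a := fun k => hxa (Subgroup.mem_centralizer_singleton_iff.mpr k.eq)
    have hxe := hswap x (hA hxA) hxa'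
    have haA : a ∉ A₀ := fun k => hxa' (hc x hxA a k.1)
    have hidx : Nat.card ↥A ≤ 2 * Nat.card ↥A₀ := by
      have hcov : ∀ g : ↥A, (g : G) ∈ A₀ ∨ x⁻¹ * g ∈ A₀ := fun g => by
        by_cases k : Commute (g : G) a
        · exact Or.inl ⟨g.2, Subgroup.mem_centralizer_singleton_iff.mpr k.eq⟩
        · refine Or.inr ⟨A.mul_mem (A.inv_mem hxA) g.2, Subgroup.mem_centralizer_singleton_iff.mpr ?_⟩
          have e1 := hswap g (hA g.2) k
          refine mul_inv_eq_iff_eq_mul.mp ?_
          rw [show x⁻¹ * g * a * (x⁻¹ * g)⁻¹ = x⁻¹ * ((g : G) * a * (g : G)⁻¹) * x by simp [mul_assoc],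
            e1, ← hxe]
          simp [mul_assoc]
      let f : ↥A → Bool × ↥A₀ := fun g =>
        if k : (g : G) ∈ A₀ then (false, ⟨g, k⟩) else (true, ⟨x⁻¹ * g, (hcov g).resolve_left k⟩)
      have hf : Function.Injective f := by
        intro g k e1
        simp only [f] at e1
        by_cases h1 : (g : G) ∈ A₀ <;> by_cases h3 : (k : G) ∈ A₀ <;>
          simp only [h1, h3, dite_true, dite_false, Prod.mk.injEq, Bool.false_eq_true, Bool.true_eq_false,
            false_and, true_and, Subtype.mk.injEq] at e1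
        · exact Subtype.ext e1
        · exact Subtype.ext (mul_left_cancel e1)
      have := Nat.card_le_card_of_injective f hf
      simpa using this
    by_cases hsub : A₀ ≤ E s M
    · by_contra hge
      push Not at hge
      have hS : ∀ g : ↥A₀, ∃ S : Fin 512, Eqa a (g : G) (eS M S) := fun g => by
        obtain ⟨S, hS, hg⟩ := hsub g.2
        exact ⟨⟨S, hS⟩, hg⟩
      choose S hS using hS
      have hinj : Function.Injective S := by
        intro g k e1
        rcases hS g with hg | hg <;> rcases hS k with hk | hk <;> rw [e1] at hg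
        · exact Subtype.ext (hg.trans hk.symm)
        · exact absurd (show a ∈ A₀ by
            have := A₀.mul_mem k.2 (A₀.inv_mem g.2)
            rwa [hk, hg, mul_inv_cancel_right] at this) haA
        · exact absurd (show a ∈ A₀ by
            have := A₀.mul_mem g.2 (A₀.inv_mem k.2)
            rwa [hk, hg, mul_inv_cancel_right] at this) haA
        · exact Subtype.ext (hg.trans hk.symm)
      have hbij : Function.Bijective S := by
        refine (Nat.bijective_iff_injective_and_card S).mpr ⟨hinj, ?_⟩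
        have h1 := Nat.card_le_card_of_injective S hinj
        simp only [Nat.card_eq_fintype_card (α := Fin 512), Fintype.card_fin] at h1 ⊢
        omega
      have hpt : ∀ i < 21, Commute x (M.pt (pl i)) ∨ x * M.pt (pl i) * x⁻¹ * M.pt (pl e) = M.pt (pl i) * a := by
        intro i hi
        obtain ⟨g, hg⟩ := hbij.2 ⟨vecAt i, vecAt_lt hi⟩
        have hgS := hS g
        rw [hg] at hgS
        have hc' := hc x hxA g g.2.1
        rcases (eS_vec s M hi) with hv | hv <;> rcases hgS with hgv | hgv <;> simp only at hgv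
        · left; rw [hv, ← hgv]; exact hc'
        · right
          have e1 := conj_self_eq hc'
          rw [hgv, ← hv, (M.mem _ (plane_pt hi)).2.2.eq] at e1
          rw [← hxe]
          conv_rhs => rw [← e1]
          simp [mul_assoc]
        · right
          have e1 := conj_self_eq hc'
          rw [show (g : G) = M.pt (pl i) * a by
            rw [← (M.mem _ (plane_pt hi)).2.2.eq, hv, ← mul_assoc, sq s, one_mul]; exact hgv] at e1
          rw [← hxe]
          conv_rhs => rw [← e1]
          simp [mul_assoc]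
        · left; rw [hv, ← hgv]; exact hc'
      refine no_fixed_hyperplane C s M he hxe fun i hi hie => ?_
      refine (hpt i hi).resolve_right fun k => ?_
      have hin : x * M.pt (pl i) * x⁻¹ ∈ (insert a {z | ∃ l < 21, M.pt (pl l) = z} : Set G) := by
        rw [← hset]
        exact ⟨conj_mem h x (M.mem _ (plane_pt hi)).1,
          T.1.mul_mem (T.1.mul_mem (hA hxA) (hET (pt_mem_E s M hi))) (T.1.inv_mem (hA hxA))⟩
      rcases hin with hin | ⟨l, hl, hin⟩
      · rw [hin, ← (M.mem _ (plane_pt hi)).2.2.eq] at k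
        exact hie (pl_inj hi he (M.inj _ _ (plane_pt hi) (plane_pt he) (mul_left_cancel k).symm))
      · have hia : Eqa a (M.pt (pl l) * M.pt (pl e)) (M.pt (pl i)) :=
          Or.inr (by rw [hin, k]; exact (M.mem _ (plane_pt hi)).2.2.eq.symm)
        have hve : Eqa a (eS M (vecAt l ^^^ vecAt e)) (eS M (vecAt i)) := by
          rw [← eS_mul s.cls]
          have sym : ∀ {p q : G}, Eqa a p q → Eqa a q p := by
            rintro p q (rfl | rfl)
            · exact Or.inl rfl
            · exact Or.inr (by rw [← mul_assoc, sq s, one_mul])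
          have e1 := (sym (eS_vec s M hl)).mul_right (eS M (vecAt e))
          have e2 := (sym (eS_vec s M he)).mul_left (M.mem _ (plane_pt hl)).2.2.symm
          exact ((e1.trans (sq s) e2).trans (sq s) hia).trans (sq s) (eS_vec s M hi)
        have hv := eS_inj s M (Nat.xor_lt_two_pow (n := 9) (vecAt_lt hl) (vecAt_lt he)) (vecAt_lt hi) hve
        have ht := tri_ok
        simp only [List.all_eq_true, List.mem_range, Bool.or_eq_true, Bool.not_eq_true'] at ht
        rcases ht l hl e he with k1 | k1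
        · rw [Nat.eq_of_beq_eq_true k1, Nat.xor_self] at hv
          have h0 := eS_vec s M hi
          rw [← hv, eS_zero s.cls] at h0
          rcases h0 with k2 | k2
          · exact (M.mem _ (plane_pt hi)).1 |> fun hD => absurd k2 (fun k3 => by
              have := h.1.1 _ hD
              rw [k3, orderOf_one] at this
              omega)
          · rw [mul_one] at k2
            exact (M.mem _ (plane_pt hi)).2.1 k2
        · exact Nat.ne_of_beq_eq_false (k1 i hi) hv
    · have := (small s M hA₀P hA₀c hA₀2 hsub).2 haA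
      omega
  rw [hE]
  have hcomm : IsMulCommutative ↥(E s M) := ⟨⟨fun x y => Subtype.ext (E_comm s M x.2 y.2).eq⟩⟩
  have hEel : IsElementaryAbelian 2 ((E s M).subgroupOf (T : Subgroup G)) := by
    refine ⟨⟨⟨fun x y => Subtype.ext (Subtype.ext ?_)⟩⟩, fun x hx => Subtype.ext ?_⟩
    · exact (E_comm s M x.2 y.2).eq
    · rw [pow_two]; exact E_sq s M hx
  have hcardE' : Nat.card ↥((E s M).subgroupOf (T : Subgroup G)) = 1024 := by
    rw [Nat.card_congr (Subgroup.subgroupOfEquivOfLe hET).toEquiv, hcardE]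
  have hdich : ∀ B : Subgroup ↥(T : Subgroup G), IsElementaryAbelian 2 B →
      B ≤ (E s M).subgroupOf (T : Subgroup G) ∨ Nat.card ↥B < 1024 := by
    intro B hB
    have hc : ∀ x ∈ B.map (T : Subgroup G).subtype, ∀ y ∈ B.map (T : Subgroup G).subtype, Commute x y := by
      rintro _ ⟨x, hx, rfl⟩ _ ⟨y, hy, rfl⟩
      exact congrArg Subtype.val (congrArg Subtype.val (hB.1.is_comm.comm ⟨x, hx⟩ ⟨y, hy⟩))
    have h2 : ∀ x ∈ B.map (T : Subgroup G).subtype, x * x = 1 := by
      rintro _ ⟨x, hx, rfl⟩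
      rw [← pow_two]
      exact congrArg Subtype.val (hB.2 x hx)
    rcases main (B.map (T : Subgroup G).subtype) (by rintro _ ⟨x, -, rfl⟩; exact x.2) hc h2 with k | k
    · refine Or.inl fun x hx => ?_
      exact k ⟨x, hx, rfl⟩
    · right
      rwa [Nat.card_congr (B.equivMapOfInjective _ (T : Subgroup G).subtype_injective).toEquiv]
  have hmax : (E s M).subgroupOf (T : Subgroup G) ∈ maxElementaryAbelianSubgroups 2 ↥(T : Subgroup G) := by
    refine ⟨hEel, fun B hB => ?_⟩
    rcases hdich B hB with k | k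
    · exact Subgroup.card_le_of_le k
    · omega
  have hJ : thompsonSubgroup 2 ↥(T : Subgroup G) = (E s M).subgroupOf (T : Subgroup G) := by
    refine le_antisymm (sSup_le fun B hB => ?_) (le_sSup hmax)
    refine (hdich B hB.1).resolve_right fun k => ?_
    have := hB.2 _ hEel
    omega
  rw [thompsonSubgroupOf, hJ, Subgroup.subgroupOf_map_subtype, inf_eq_left.mpr hET]

end Cfsg.Agent.Block.FischerTypes.M22Thompson
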