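import Cfsg.Agent.Lib.Block.FischerTypes.M22Thompson.Sylow

/-! Elementary subgroups of the standard Sylow subgroup of the centraliser of a member. -/

set_option autoImplicit false
set_option linter.style.haveILetI false
set_option linter.unusedSectionVars false

namespace Cfsg.Agent.Block.FischerTypes.M22Thompson

open Cfsg Cfsg.Agent.Spor.ThreeTrans Cfsg.Agent.Block.FischerTypes.U6Code

theorem mulIdx_zero {k : ℕ} (hk : k < 64) (h0 : ∀ i < 21, perm 0 i = i) : mulIdx k 0 = k :=
  perm_eq_iff (mulIdx_spec hk (by norm_num)).1 hk fun i hi => by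
    rw [(mulIdx_spec hk (by norm_num)).2 i hi, h0 _ (perm_spec hk hi).1]

theorem perm_zero : ∀ i < 21, perm 0 i = i := fun i hi => by
  obtain ⟨h1, h2⟩ := perm_spec (show 0 < 64 by norm_num) hi
  rw [bas_ok.2.2] at h2
  exact (pl_inj hi h1 h2).symm

/-- An elementary abelian set of indices. -/
structure IsElem (J : Finset ℕ) : Prop where
  lt : ∀ j ∈ J, j < 64
  zero : 0 ∈ J
  closed : ∀ k ∈ J, ∀ l ∈ J, mulIdx k l ∈ J ∧ mulIdx k l = mulIdx l k
  invol : ∀ k ∈ J, mulIdx k k = 0

/-- The sums fixed by all indices of a set. -/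
def fixedSums (J : Finset ℕ) : Finset ℕ :=
  (Finset.range 512).filter fun S => ∀ j ∈ J, (fixMask j).testBit S = true

theorem grow_bound {J : Finset ℕ} (hJ : IsElem J) : ∀ (n last : ℕ) (gs L : List ℕ) (F : ℕ),
    grow n last gs L F = true → (∀ g ∈ gs, g ∈ J) → (∀ l ∈ L, l ∈ J) → 0 ∈ L →
    (∀ j ∈ J, j ∉ L → last < j) → (∀ S ∈ fixedSums J, F.testBit S = true) →
    J ⊆ {0} ∨ J.card * (fixedSums J).card ≤ 256
  | 0, _, _, _, _, h, _, _, _, _, _ => by simp [grow] at h
  | n + 1, last, gs, L, F, h, hgs, hL, h0, hlast, hF => by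
    classical
    simp only [grow, Bool.and_eq_true, List.all_eq_true, Bool.or_eq_true] at h
    obtain ⟨h1, h2⟩ := h
    by_cases hsub : ∀ j ∈ J, j ∈ L
    · have hJL : J ⊆ L.toFinset := fun j hj => List.mem_toFinset.mpr (hsub j hj)
      have hc : J.card ≤ L.length := (Finset.card_le_card hJL).trans (List.toFinset_card_le L)
      rcases h1 with h1 | h1
      · left
        have hlen := Nat.le_of_ble_eq_true h1
        obtain ⟨x, hx⟩ := List.length_eq_one_iff.mp
          (le_antisymm hlen (List.length_pos_of_mem h0))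
        intro j hj
        have := hsub j hj
        rw [hx, List.mem_singleton] at this
        rw [hx, List.mem_singleton] at h0
        simp [this, ← h0]
      right
      have h1' := Nat.le_of_ble_eq_true h1
      unfold popcount at h1'
      cases hf : counts.find? (fun e => Nat.beq e.1 F) with
      | none =>
        rw [hf] at h1'
        have h1'' : L.length * 513 ≤ 256 := h1'
        have := List.length_pos_of_mem h0
        omega
      | some e =>
        rw [hf] at h1'
        have h1'' : L.length * e.2 ≤ 256 := h1'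
        have he : e.1 = F := Nat.eq_of_beq_eq_true (List.find?_some (p := fun e : ℕ × ℕ => Nat.beq e.1 F) hf)
        have hcnt := List.all_eq_true.mp counts_ok e (List.mem_of_find?_eq_some hf)
        have hcnt' := Nat.eq_of_beq_eq_true hcnt
        rw [he] at hcnt'
        have hfx : (fixedSums J).card ≤ e.2 := by
          rw [← hcnt']
          refine (Finset.card_le_card (t := ((List.range 512).filter fun S => F.testBit S).toFinset) ?_).trans
            (List.toFinset_card_le _)
          intro S hS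
          rw [List.mem_toFinset, List.mem_filter, List.mem_range]
          exact ⟨Finset.mem_range.mp (Finset.mem_filter.mp hS).1, hF S hS⟩
        exact (Nat.mul_le_mul hc hfx).trans h1''
    push Not at hsub
    obtain ⟨k, hk, hkL, hmin⟩ : ∃ k ∈ J, k ∉ L ∧ ∀ j ∈ J, j ∉ L → k ≤ j := by
      obtain ⟨j, hj, hjL⟩ := hsub
      have hne : (J.filter fun x => x ∉ L).Nonempty := ⟨j, Finset.mem_filter.mpr ⟨hj, hjL⟩⟩
      obtain ⟨k, hk, hmin⟩ := Finset.exists_min_image _ id hne
      exact ⟨k, (Finset.mem_filter.mp hk).1, (Finset.mem_filter.mp hk).2,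
        fun x hx hxL => hmin x (Finset.mem_filter.mpr ⟨hx, hxL⟩)⟩
    have hk64 := hJ.lt k hk
    have hkinv : k ∈ invs := by
      have h' := List.all_eq_true.mp invs_ok k (List.mem_range.mpr hk64)
      simp only [Bool.or_eq_true, Bool.not_eq_true'] at h'
      rcases h' with (h' | h') | h'
      · exact absurd (Nat.eq_of_beq_eq_true h' ▸ h0) hkL
      · exact absurd (hJ.invol k hk) (Nat.ne_of_beq_eq_false h')
      · exact List.contains_iff_mem.mp h'
    have hjoin : joins last gs L k = true := by
      simp only [joins, Bool.and_eq_true, List.all_eq_true, Bool.not_eq_true', Bool.or_eq_true]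
      refine ⟨⟨⟨Nat.ble_eq_true_of_le (hlast k hk hkL), ?_⟩, fun g hg => ?_⟩, fun l hl => ?_⟩
      · rw [Bool.eq_false_iff]; exact fun e => hkL (List.contains_iff_mem.mp e)
      · rw [(hJ.closed k hk g (hgs g hg)).2]; exact Nat.beq_refl _
      · by_cases hm : mulIdx k l ∈ L
        · exact Or.inr (List.contains_iff_mem.mpr hm)
        · exact Or.inl (Nat.ble_eq_true_of_le (hmin _ (hJ.closed k hk l (hL l hl)).1 hm))
    rcases h2 k hkinv with h' | h'
    · simp [hjoin] at h'
    refine grow_bound hJ n k (k :: gs) (L ++ L.map (mulIdx k)) (F &&& fixMask k) h' ?_ ?_ ?_ ?_ ?_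
    · rintro g (_ | ⟨_, hg⟩)
      exacts [hk, hgs g hg]
    · intro l hl
      rcases List.mem_append.mp hl with hl | hl
      · exact hL l hl
      · obtain ⟨l', hl', rfl⟩ := List.mem_map.mp hl
        exact (hJ.closed k hk l' (hL l' hl')).1
    · exact List.mem_append_left _ h0
    · intro j hj hjL
      simp only [List.mem_append, not_or] at hjL
      refine lt_of_le_of_ne (hmin j hj hjL.1) fun e => hjL.2 ?_
      exact List.mem_map.mpr ⟨0, h0, by rw [mulIdx_zero hk64 perm_zero, e]⟩
    · intro S hS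
      rw [Nat.testBit_and, hF S hS, (Finset.mem_filter.mp hS).2 k hk]
      rfl

variable {G : Type*} [Group G] [Finite G] {D : Set G} {a : G} (s : Std D a) (M : Model D a)

/-- An elementary subgroup of the standard Sylow subgroup not inside the plane group is small. -/
theorem small {A : Subgroup G} (hA : A ≤ P s M) (hc : ∀ x ∈ A, ∀ y ∈ A, Commute x y)
    (h2 : ∀ x ∈ A, x * x = 1) (hne : ¬ A ≤ E s M) :
    Nat.card ↥A ≤ 512 ∧ (a ∉ A → Nat.card ↥A ≤ 256) := by
  classical
  haveI := Fintype.ofFinite G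
  have hdec : ∀ g : ↥A, ∃ p : G × ℕ, p.1 ∈ E s M ∧ p.2 < 64 ∧ (g : G) = p.1 * u M p.2 := fun g => by
    have hg : (g : G) ∈ Sig s M := by rw [← sig_eq]; exact hA g.2
    obtain ⟨e, he, j, hj, h⟩ := hg
    exact ⟨(e, j), he, hj, h⟩
  choose p hpE hpj hp using hdec
  let idx : ↥A → ℕ := fun g => (p g).2
  have hconj : ∀ (g : ↥A) {i : ℕ}, i < 21 →
      (g : G) * M.pt (pl i) * (g : G)⁻¹ = M.pt (pl (perm (idx g) i)) := fun g i hi => by
    rw [hp g]; exact sig_conj s M (hpE g) (hpj g) hi
  have huniq : ∀ (g : ↥A) {j : ℕ}, j < 64 →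
      (∀ i < 21, (g : G) * M.pt (pl i) * (g : G)⁻¹ = M.pt (pl (perm j i))) → idx g = j := by
    intro g j hj h
    refine perm_eq_iff (hpj g) hj fun i hi => pl_inj (perm_spec (hpj g) hi).1 (perm_spec hj hi).1 ?_
    exact M.inj _ _ (plane_pt (perm_spec (hpj g) hi).1) (plane_pt (perm_spec hj hi).1)
      ((hconj g hi).symm.trans (h i hi))
  have hmul : ∀ g k : ↥A, idx (g * k) = mulIdx (idx k) (idx g) := fun g k => by
    obtain ⟨hlt, hperm⟩ := mulIdx_spec (hpj k) (hpj g)
    refine huniq _ hlt fun i hi => ?_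
    rw [hperm i hi, ← hconj g (perm_spec (hpj k) hi).1, ← hconj k hi]
    simp [mul_assoc]
  have hone : idx 1 = 0 := huniq 1 (by norm_num) fun i hi => by simp [perm_zero i hi]
  obtain ⟨J, hJdef⟩ : ∃ J, J = (Finset.univ : Finset ↥A).image idx := ⟨_, rfl⟩
  have hmem : ∀ {j}, j ∈ J ↔ ∃ g, idx g = j := by simp [hJdef]
  have hJ : IsElem J := by
    refine ⟨?_, hmem.mpr ⟨1, hone⟩, ?_, ?_⟩
    · intro j hj
      obtain ⟨g, rfl⟩ := hmem.mp hj
      exact hpj g
    · intro k hk l hl
      obtain ⟨g, rfl⟩ := hmem.mp hk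
      obtain ⟨x, rfl⟩ := hmem.mp hl
      refine ⟨hmem.mpr ⟨x * g, hmul x g⟩, ?_⟩
      rw [← hmul, ← hmul]
      exact congrArg idx (Subtype.ext (hc x x.2 g g.2).eq)
    · intro k hk
      obtain ⟨g, rfl⟩ := hmem.mp hk
      rw [← hmul, show g * g = 1 from Subtype.ext (h2 g g.2), hone]
  have hnz : ¬ J ⊆ {0} := fun k => hne fun g hg => by
    have h0 : idx ⟨g, hg⟩ = 0 := Finset.mem_singleton.mp (k (hmem.mpr ⟨_, rfl⟩))
    have e := hp ⟨g, hg⟩
    rw [show (p ⟨g, hg⟩).2 = 0 from h0, u_zero s, mul_one] at e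
    rw [show g = (p ⟨g, hg⟩).1 from e]
    exact hpE ⟨g, hg⟩
  have hgrow : J.card * (fixedSums J).card ≤ 256 := by
    refine (grow_bound hJ 6 0 [] [0] (2 ^ 512 - 1) grow_ok (by simp) ?_ (by simp) ?_ ?_).resolve_left hnz
    · simpa using hJ.zero
    · intro j _ hj
      simp only [List.mem_singleton] at hj
      omega
    · intro S hS
      rw [Nat.testBit_two_pow_sub_one]
      simpa using Finset.mem_range.mp (Finset.mem_filter.mp hS).1
  let B := A ⊓ E s M
  have hBfix : ∀ x ∈ B, ∃ S ∈ fixedSums J, Eqa a x (eS M S) := by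
    intro x hx
    obtain ⟨S, hS, hxS⟩ := hx.2
    refine ⟨S, Finset.mem_filter.mpr ⟨Finset.mem_range.mpr hS, fun j hj => ?_⟩, hxS⟩
    obtain ⟨g, rfl⟩ := hmem.mp hj
    have hcomm : Commute (u M (idx g)) (eS M S) := by
      have hgx : Commute (g : G) x := hc g g.2 x hx.1
      have hex : Commute (p g).1 x := E_comm s M (hpE g) hx.2
      have hux : Commute (u M (idx g)) x := by
        have e : u M (idx g) = (p g).1⁻¹ * g := by rw [hp g]; simp [idx]
        rw [e]; exact hex.inv_left.mul_left hgx
      rcases hxS with rfl | rfl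
      · exact hux
      · have e : eS M S = a * (a * eS M S) := by rw [← mul_assoc, sq s, one_mul]
        rw [e]
        exact (u_comm_a s M (hpj g)).mul_right hux
    have e1 := u_conj_eS s M (hpj g) S
    rw [show (p g).2 = idx g from rfl, conj_self_eq hcomm] at e1
    have e2 := eS_inj s M hS (linW_lt (hpj g) basIdx S fun i hi => idx_lt hi) e1
    have hfix : fixChunk ((idx g) / 8) = true := by
      have : (idx g) / 8 < 8 := Nat.div_lt_of_lt_mul (hpj g)
      interval_cases ((idx g) / 8)
      exacts [fix0_ok, fix1_ok, fix2_ok, fix3_ok, fix4_ok, fix5_ok, fix6_ok, fix7_ok]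
    simp only [fixChunk, List.all_eq_true, List.mem_range, beq_iff_eq] at hfix
    have := hfix ((idx g) % 8) (Nat.mod_lt _ (by norm_num)) S hS
    rw [Nat.div_add_mod] at this
    rw [this, show (p g).2 = idx g from rfl] at *
    rw [← e2]
    exact Nat.beq_refl S
  have hAB : Nat.card ↥A ≤ Nat.card ↥B * J.card := by
    rw [Nat.card_eq_fintype_card, ← Finset.card_univ, hJdef]
    refine Finset.card_le_mul_card_image _ _ fun b hb => ?_
    obtain ⟨g₀, -, rfl⟩ := Finset.mem_image.mp hb
    rw [Nat.card_eq_fintype_card, ← Finset.card_univ]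
    have hin : ∀ g : ↥A, idx g = idx g₀ → (g₀ : G)⁻¹ * g ∈ B := fun g hg => by
      refine ⟨A.mul_mem (A.inv_mem g₀.2) g.2, ?_⟩
      have hgg : (g₀ : G)⁻¹ * g = (u M (idx g₀))⁻¹ * ((p g₀).1⁻¹ * (p g).1) * u M (idx g₀) := by
        rw [hp g, hp g₀, show (p g).2 = idx g₀ from hg]; simp [idx, mul_assoc]
      have hsw : (u M (idx g₀))⁻¹ * ((p g₀).1⁻¹ * (p g).1) * u M (idx g₀) ∈ E s M := by
        have hel : ((p g₀).1⁻¹ * (p g).1) ∈ E s M := mul_mem (inv_mem (hpE g₀)) (hpE g)
        have hN : Subgroup.map (MulAut.conj (u M (idx g₀))).toMonoidHom (E s M) ≤ E s M := by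
          rintro _ ⟨x, hx, rfl⟩; exact u_normal s M (hpj g₀) hx
        have heq := Subgroup.eq_of_le_of_card_ge hN
          (le_of_eq (Nat.card_congr ((E s M).equivMapOfInjective _ (MulAut.conj (u M (idx g₀))).injective).toEquiv))
        obtain ⟨y, hy, he⟩ := (heq.ge hel : (p g₀).1⁻¹ * (p g).1 ∈ _)
        rw [← he]
        simpa [MulAut.conj_apply, mul_assoc] using hy
      rwa [hgg]
    refine Finset.card_le_card_of_injOn (fun g => if h : idx g = idx g₀ then ⟨_, hin g h⟩ else 1)
      (fun g _ => Finset.mem_univ _) ?_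
    intro g hg k hk e
    simp only [Finset.coe_filter, Set.mem_setOf_eq, Finset.mem_univ, true_and] at hg hk
    simp only [dif_pos hg, dif_pos hk, Subtype.mk.injEq] at e
    exact Subtype.ext (mul_left_cancel e)
  choose S hSfix hSx using fun x : ↥B => hBfix x x.2
  have hB : Nat.card ↥B ≤ 2 * (fixedSums J).card := by
    have hinj : Function.Injective fun x : ↥B =>
        ((decide ((x : G) = eS M (S x))), (⟨S x, hSfix x⟩ : ↥(fixedSums J))) := by
      intro x y e
      simp only [Prod.mk.injEq, Subtype.mk.injEq] at e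
      refine Subtype.ext ?_
      rcases hSx x with hx | hx <;> rcases hSx y with hy | hy
      · rw [hx, hy, e.2]
      · have : (x : G) = eS M (S x) ↔ (y : G) = eS M (S y) := decide_eq_decide.mp e.1
        rw [hx, this.mp hx, e.2]
      · have : (x : G) = eS M (S x) ↔ (y : G) = eS M (S y) := decide_eq_decide.mp e.1
        rw [this.mpr hy, hy, e.2]
      · rw [hx, hy, e.2]
    have := Nat.card_le_card_of_injective _ hinj
    simpa using this
  refine ⟨?_, fun haA => ?_⟩
  · calc Nat.card ↥A ≤ Nat.card ↥B * J.card := hAB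
      _ ≤ 2 * (fixedSums J).card * J.card := Nat.mul_le_mul_right _ hB
      _ ≤ 512 := by rw [mul_assoc, mul_comm (fixedSums J).card]; omega
  · have hB' : Nat.card ↥B ≤ (fixedSums J).card := by
      have hinj : Function.Injective fun x : ↥B => (⟨S x, hSfix x⟩ : ↥(fixedSums J)) := by
        intro x y e
        have e' : S x = S y := Subtype.ext_iff.mp e
        have hxy : Eqa a (x : G) (y : G) := by
          have hy : Eqa a (eS M (S x)) (y : G) := by
            rw [e']
            rcases hSx y with k | k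
            · exact Or.inl k.symm
            · exact Or.inr (by rw [k, ← mul_assoc, sq s, one_mul])
          exact (hSx x).trans (sq s) hy
        rcases hxy with k | k
        · exact Subtype.ext k
        · exact absurd (show a ∈ A by
            have := A.mul_mem x.2.1 (A.inv_mem y.2.1)
            rwa [k, mul_inv_cancel_right] at this) haA
      simpa using Nat.card_le_card_of_injective _ hinj
    calc Nat.card ↥A ≤ Nat.card ↥B * J.card := hAB
      _ ≤ (fixedSums J).card * J.card := Nat.mul_le_mul_right _ hB'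
      _ ≤ 256 := by rw [mul_comm]; exact hgrow

end Cfsg.Agent.Block.FischerTypes.M22Thompson
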