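import Cfsg.Agent.Lib.Block.FischerTypes.M22Thompson.Checks
import Cfsg.Agent.Lib.Block.FischerTypes.M22Order
import Cfsg.Agent.Lib.Grp.M22Local.Base

/-! A Sylow two-subgroup of the centraliser of a member, in the numbering. -/

set_option autoImplicit false
set_option linter.style.haveILetI false
set_option linter.unusedSectionVars false

namespace Cfsg.Agent.Block.FischerTypes.M22Thompson

open Cfsg Cfsg.Agent.Spor.ThreeTrans Cfsg.Agent.Block.FischerTypes.U6Code
open Cfsg.Agent.Grp.M22Local (el el_mem el_commute el_conj el_append rigid chain7_ok chain7_mult base7)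

variable {G : Type*} [Group G] [Finite G] {D : Set G} {a : G}

theorem testBit_zero_xor (S T : ℕ) : (S ^^^ T).testBit 0 = (S.testBit 0 ^^ T.testBit 0) := Nat.testBit_xor S T 0

theorem plane_pt {i : ℕ} (hi : i < 21) : isPt (pl i) = true := by
  have h := pl_ok
  simp only [Bool.and_eq_true, List.all_eq_true] at h
  refine h.1.1.1.2 _ ?_
  have hl : plane.length = 21 := Nat.eq_of_beq_eq_true h.1.1.1.1.1.1
  rw [pl, List.getD_eq_getElem _ _ (by omega)]
  exact List.getElem_mem _

theorem pl_mem {i : ℕ} (hi : i < 21) : pl i ∈ plane := by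
  have h := pl_ok
  simp only [Bool.and_eq_true] at h
  have hl : plane.length = 21 := Nat.eq_of_beq_eq_true h.1.1.1.1.1.1
  rw [pl, List.getD_eq_getElem _ _ (by omega)]
  exact List.getElem_mem _

theorem plane_adj {i k : ℕ} (hi : i < 21) (hk : k < 21) : adj (pl i) (pl k) = true := by
  have h := pl_ok
  simp only [Bool.and_eq_true, List.all_eq_true] at h
  exact h.1.2 _ (pl_mem hi) _ (pl_mem hk)

theorem pl_inj {i k : ℕ} (hi : i < 21) (hk : k < 21) (e : pl i = pl k) : i = k := by
  have h := pl_ok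
  simp only [Bool.and_eq_true, List.all_eq_true, List.mem_range] at h
  have h' := h.2 i hi k hk
  simp only [Bool.or_eq_true, Bool.not_eq_true'] at h'
  rcases h' with h' | h'
  · exact Nat.eq_of_beq_eq_true h'
  · exact absurd e (Nat.ne_of_beq_eq_false h')

theorem gens_pt {g : ℕ} (hg : g < 6) : (gens.getD g []).all isPt = true := by
  have h := pl_ok
  simp only [Bool.and_eq_true] at h
  have hl : gens.length = 6 := Nat.eq_of_beq_eq_true h.1.1.1.1.2
  have h' := List.all_eq_true.mp h.1.1.2 _ (List.getElem_mem (l := gens) (by omega : g < gens.length))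
  rwa [List.getD_eq_getElem _ _ (by omega)]

theorem idx_lt {i : ℕ} (hi : i ∈ basIdx) : i < 21 :=
  Nat.le_of_ble_eq_true (List.all_eq_true.mp bas_ok.2.1 i hi)

theorem perm_spec {j i : ℕ} (hj : j < 64) (hi : i < 21) :
    perm j i < 21 ∧ act (word j) (pl i) = pl (perm j i) := by
  have h := perm_ok
  simp only [List.all_eq_true, List.mem_range, Bool.and_eq_true] at h
  exact ⟨Nat.le_of_ble_eq_true (h j hj i hi).1, Nat.eq_of_beq_eq_true (h j hj i hi).2⟩

theorem perm_eq_iff {j k : ℕ} (hj : j < 64) (hk : k < 64) (e : ∀ i < 21, perm j i = perm k i) : j = k := by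
  have h := perm_inj
  simp only [List.all_eq_true, List.mem_range, Bool.or_eq_true, List.any_eq_true, Bool.not_eq_true'] at h
  rcases h j hj k hk with h' | ⟨i, hi, h'⟩
  · exact Nat.eq_of_beq_eq_true h'
  · exact absurd (e i hi) (Nat.ne_of_beq_eq_false h')

theorem mulIdx_spec {k l : ℕ} (hk : k < 64) (hl : l < 64) :
    mulIdx k l < 64 ∧ ∀ i < 21, perm (mulIdx k l) i = perm l (perm k i) := by
  have h := mul_ok
  simp only [List.all_eq_true, List.mem_range, Bool.and_eq_true] at h
  exact ⟨Nat.le_of_ble_eq_true (h k hk l hl).1, fun i hi => Nat.eq_of_beq_eq_true ((h k hk l hl).2 i hi)⟩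

theorem vecAt_lt {i : ℕ} (hi : i < 21) : vecAt i < 512 := by
  have h := vec_ok
  simp only [List.all_eq_true, List.mem_range, Bool.and_eq_true] at h
  exact Nat.le_of_ble_eq_true (h i hi).1

theorem linW_lt {j : ℕ} (hj : j < 64) : ∀ (l : List ℕ) (S : ℕ), (∀ i ∈ l, i < 21) → linW j l S < 512
  | [], _, _ => by simp [linW]
  | i :: l, S, hl => by
    have h1 : vecAt (perm j i) < 2 ^ 9 := vecAt_lt (perm_spec hj (hl i List.mem_cons_self)).1
    have h2 : linW j l (S >>> 1) < 2 ^ 9 := linW_lt hj l _ fun x hx => hl x (List.mem_cons_of_mem _ hx)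
    rw [linW]
    cases S.testBit 0
    · exact h2
    · exact Nat.xor_lt_two_pow h1 h2

theorem base_pt : ∀ q ∈ base7, isPt q = true := by decide +kernel

theorem word_pt {j : ℕ} (hj : j < 64) : (word j).all isPt = true := by
  have h := code_ok
  simp only [List.all_eq_true, List.mem_range] at h
  simp only [word, List.all_eq_true, List.mem_flatMap]
  rintro x ⟨g, hg, hx⟩
  exact List.all_eq_true.mp (gens_pt (Nat.le_of_ble_eq_true (h j hj g hg))) x hx

section Words

variable (h : IsThreeTranspositionClass D) (M : Model D a)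

theorem subW_sub : ∀ (B : List ℕ) (S : ℕ), ∀ x ∈ subW B S, x ∈ B
  | [], _ => by simp [subW]
  | b :: B, S => fun x hx => by
    rw [subW] at hx
    cases hb : S.testBit 0 <;> rw [hb] at hx
    · exact List.mem_cons_of_mem _ (subW_sub B _ x hx)
    · rcases List.mem_cons.mp hx with rfl | hx
      · exact List.mem_cons_self
      · exact List.mem_cons_of_mem _ (subW_sub B _ x hx)

theorem el_commute_of (M : Model D a) {g : G} : ∀ {w : List ℕ}, (∀ x ∈ w, Commute (M.pt x) g) →
    Commute (el M w) g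
  | [], _ => Commute.one_left g
  | p :: w, hw => Commute.mul_left (el_commute_of M fun x hx => hw x (List.mem_cons_of_mem _ hx))
      (hw p List.mem_cons_self)

include h in
theorem el_subW_mul : ∀ (B : List ℕ) (S T : ℕ), (∀ x ∈ B, isPt x = true) →
    (∀ x ∈ B, ∀ y ∈ B, adj x y = true) →
    el M (subW B S) * el M (subW B T) = el M (subW B (S ^^^ T))
  | [], _, _, _, _ => by simp [subW, el]
  | b :: B, S, T, hB, hadj => by
    have ih := el_subW_mul B (S >>> 1) (T >>> 1) (fun x hx => hB x (List.mem_cons_of_mem _ hx))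
      (fun x hx y hy => hadj x (List.mem_cons_of_mem _ hx) y (List.mem_cons_of_mem _ hy))
    have hc : ∀ U : ℕ, Commute (el M (subW B U)) (M.pt b) := fun U => el_commute_of M fun x hx => by
      have hxB := List.mem_cons_of_mem b (subW_sub B U x hx)
      exact (M.comm x b (hB x hxB) (hB b List.mem_cons_self)).2 (hadj x hxB b List.mem_cons_self)
    have hsq : M.pt b * M.pt b = 1 := mul_self h.1 (M.mem b (hB b List.mem_cons_self)).1
    simp only [subW, testBit_zero_xor, Nat.shiftRight_xor_distrib]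
    cases S.testBit 0 <;> cases T.testBit 0 <;> simp only [Bool.xor_false, Bool.xor_true, Bool.not_false,
      Bool.not_true, cond_true, cond_false, el]
    · exact ih
    · rw [← mul_assoc, ih]
    · rw [mul_assoc, ← (hc _).eq, ← mul_assoc, ih]
    · rw [mul_assoc, ← mul_assoc (M.pt b), ← (hc _).eq, mul_assoc (el M (subW B (T >>> 1))), hsq, mul_one, ih]

/-- Equal or differing by `a`. -/
def Eqa (a g k : G) : Prop := g = k ∨ g = a * k

theorem Eqa.refl (g : G) : Eqa a g g := Or.inl rfl

theorem Eqa.mul_right {g k : G} (e : Eqa a g k) (x : G) : Eqa a (g * x) (k * x) := by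
  rcases e with rfl | rfl
  · exact Or.inl rfl
  · exact Or.inr (mul_assoc a k x)

theorem Eqa.mul_left {g k x : G} (e : Eqa a g k) (hx : Commute x a) : Eqa a (x * g) (x * k) := by
  rcases e with rfl | rfl
  · exact Or.inl rfl
  · exact Or.inr (by rw [← mul_assoc, hx.eq, mul_assoc])

theorem Eqa.trans (hsq : a * a = 1) {g k l : G} (e : Eqa a g k) (f : Eqa a k l) : Eqa a g l := by
  rcases e with rfl | rfl
  · exact f
  rcases f with rfl | rfl
  · exact Or.inr rfl
  · exact Or.inl (by rw [← mul_assoc, hsq, one_mul])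

/-- The sum with the given bits. -/
def eS (M : Model D a) (S : ℕ) : G := el M (subW bas S)

theorem bas_plane {x : ℕ} (hx : x ∈ bas) : ∃ i < 21, pl i = x := by
  rw [← bas_ok.1] at hx
  obtain ⟨i, hi, rfl⟩ := List.mem_map.mp hx
  exact ⟨i, idx_lt hi, rfl⟩

theorem bas_pt : ∀ x ∈ bas, isPt x = true := fun x hx => by
  obtain ⟨i, hi, rfl⟩ := bas_plane hx
  exact plane_pt hi

theorem bas_adj : ∀ x ∈ bas, ∀ y ∈ bas, adj x y = true := fun x hx y hy => by
  obtain ⟨i, hi, rfl⟩ := bas_plane hx
  obtain ⟨k, hk, rfl⟩ := bas_plane hy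
  exact plane_adj hi hk

theorem subW_bas_pt (S : ℕ) : (subW bas S).all isPt = true :=
  List.all_eq_true.mpr fun x hx => bas_pt x (subW_sub bas S x hx)

include h

theorem eS_mul (S T : ℕ) : eS M S * eS M T = eS M (S ^^^ T) := el_subW_mul h M bas S T bas_pt bas_adj

theorem eS_zero : eS M 0 = 1 := by
  have := eS_mul h M 0 0
  rw [Nat.xor_self] at this
  exact mul_eq_left.mp this

theorem eS_comm_pl (S : ℕ) {i : ℕ} (hi : i < 21) : Commute (eS M S) (M.pt (pl i)) :=
  el_commute_of M fun x hx => by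
    obtain ⟨k, hk, rfl⟩ := bas_plane (subW_sub bas S x hx)
    exact (M.comm _ _ (plane_pt hk) (plane_pt hi)).2 (plane_adj hk hi)

theorem eS_comm_a (S : ℕ) : Commute (eS M S) a := el_commute M (subW_bas_pt S)

theorem conjBy_el {g : G} (hg : Commute g a) : ∀ w : List ℕ, el (M.conjBy h g hg) w = g * el M w * g⁻¹
  | [] => by simp [el]
  | p :: w => by
    show el (M.conjBy h g hg) w * (g * M.pt p * g⁻¹) = g * (el M w * M.pt p) * g⁻¹
    rw [conjBy_el hg w]
    simp [mul_assoc]

end Words

/-- The standing facts. -/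
structure Std (D : Set G) (a : G) : Prop where
  cls : IsThreeTranspositionClass D
  mem : a ∈ D
  cen : Nat.card ↥(Subgroup.centralizer ({a} : Set G)) = 2 * 9196830720

variable (s : Std D a) (M : Model D a)
include s

theorem sq : a * a = 1 := mul_self s.cls.1 s.mem

/-- Words acting alike on the base differ by a power of `a`. -/
theorem eqa_of_act {v w : List ℕ} (hv : v.all isPt = true) (hw : w.all isPt = true)
    (hact : ∀ q ∈ base7, act v q = act w q) : Eqa a (el M v) (el M w) := by
  have hk := el_commute M hw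
  have hz : (el M w)⁻¹ * el M v ∈ Subgroup.zpowers a := by
    refine rigid s.cls M s.mem s.cen chain7_ok chain7_mult (hk.inv_left.mul_left (el_commute M hv)) fun b hb => ?_
    have e1 := (el_conj s.cls M hv (base_pt b hb)).2
    rw [hact b hb, ← (el_conj s.cls M hw (base_pt b hb)).2] at e1
    have e : (el M w)⁻¹ * (el M v * M.pt b * (el M v)⁻¹) * el M w = M.pt b := by rw [e1]; simp [mul_assoc]
    show (el M w)⁻¹ * el M v * M.pt b = M.pt b * ((el M w)⁻¹ * el M v)
    conv_rhs => rw [← e]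
    simp [mul_assoc]
  have h2 := Cfsg.Agent.Grp.M22Local.sq_of_mem s.cls s.mem hz
  obtain ⟨n, hn⟩ := hz
  have h12 : (el M w)⁻¹ * el M v = 1 ∨ (el M w)⁻¹ * el M v = a := by
    rw [← hn]
    show a ^ n = 1 ∨ a ^ n = a
    have ha2 : a ^ (2 : ℤ) = 1 := by rw [zpow_two]; exact sq s
    obtain ⟨k, rfl | rfl⟩ := Int.even_or_odd' n
    · exact Or.inl (by rw [zpow_mul, ha2, one_zpow])
    · exact Or.inr (by rw [zpow_add, zpow_mul, ha2, one_zpow, one_mul, zpow_one])
  rcases h12 with k | k
  · exact Or.inl (inv_mul_eq_one.mp k).symm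
  · exact Or.inr (by rw [inv_mul_eq_iff_eq_mul.mp k, hk.eq])

theorem eS_vec {i : ℕ} (hi : i < 21) : Eqa a (M.pt (pl i)) (eS M (vecAt i)) := by
  have h := vec_ok
  simp only [List.all_eq_true, List.mem_range, Bool.and_eq_true] at h
  have := eqa_of_act s M (v := [pl i]) (by simp [plane_pt hi]) (subW_bas_pt (vecAt i))
    fun q hq => Nat.eq_of_beq_eq_true ((h i hi).2 q hq)
  simpa [el, eS] using this

theorem eS_inj {S T : ℕ} (hS : S < 512) (hT : T < 512) (e : Eqa a (eS M S) (eS M T)) : S = T := by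
  have e' : Eqa a (eS M (S ^^^ T)) 1 := by
    have := e.mul_right (eS M T)
    rwa [eS_mul s.cls, eS_mul s.cls, Nat.xor_self, eS_zero s.cls] at this
  have hU : S ^^^ T < 512 := Nat.xor_lt_two_pow (n := 9) hS hT
  have h := inj_ok
  simp only [List.all_eq_true, List.mem_range, Bool.or_eq_true, List.any_eq_true, Bool.not_eq_true'] at h
  rcases h _ hU with h' | ⟨q, hq, h'⟩
  · have h0 : S ^^^ T = 0 := Nat.eq_of_beq_eq_true h'
    have := Nat.xor_xor_cancel_right S T
    rw [h0, Nat.zero_xor] at this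
    exact this.symm
  · exfalso
    have hqp : isPt q = true := base_pt q hq
    obtain ⟨hp, e1⟩ := el_conj s.cls M (subW_bas_pt (S ^^^ T)) hqp
    have hc : Commute (eS M (S ^^^ T)) (M.pt q) := by
      rcases e' with k | k <;> rw [k]
      · exact Commute.one_left _
      · rw [mul_one]; exact (M.mem q hqp).2.2
    rw [show el M (subW bas (S ^^^ T)) = eS M (S ^^^ T) from rfl, conj_self_eq hc] at e1
    exact Nat.ne_of_beq_eq_false h' (M.inj _ _ hqp hp e1).symm

/-- The plane group. -/
def E : Subgroup G where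
  carrier := {g | ∃ S < 512, Eqa a g (eS M S)}
  one_mem' := ⟨0, by norm_num, Or.inl (eS_zero s.cls M).symm⟩
  mul_mem' := by
    rintro g k ⟨S, hS, eg⟩ ⟨T, hT, ek⟩
    refine ⟨S ^^^ T, Nat.xor_lt_two_pow (n := 9) hS hT, ?_⟩
    rw [← eS_mul s.cls]
    exact (eg.mul_right k).trans (sq s) (ek.mul_left (eS_comm_a s.cls M S))
  inv_mem' := by
    rintro g ⟨S, hS, eg⟩
    refine ⟨S, hS, ?_⟩
    have hi : (eS M S)⁻¹ = eS M S := inv_eq_of_mul_eq_one_right (by rw [eS_mul s.cls, Nat.xor_self, eS_zero s.cls])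
    rcases eg with rfl | rfl
    · exact Or.inl hi
    · exact Or.inr (by rw [mul_inv_rev, hi, inv_eq_of_mul_eq_one_right (sq s), (eS_comm_a s.cls M S).eq])

theorem a_mem_E : a ∈ E s M := ⟨0, by norm_num, Or.inr (by rw [eS_zero s.cls, mul_one])⟩

theorem pt_mem_E {i : ℕ} (hi : i < 21) : M.pt (pl i) ∈ E s M := ⟨vecAt i, vecAt_lt hi, eS_vec s M hi⟩

theorem eS_mem_E {S : ℕ} (hS : S < 512) : eS M S ∈ E s M := ⟨S, hS, Or.inl rfl⟩

theorem E_comm_a {g : G} (hg : g ∈ E s M) : Commute g a := by
  obtain ⟨S, -, rfl | rfl⟩ := hg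
  · exact eS_comm_a s.cls M S
  · exact (Commute.refl a).mul_left (eS_comm_a s.cls M S)

theorem E_comm_pl {g : G} (hg : g ∈ E s M) {i : ℕ} (hi : i < 21) : Commute g (M.pt (pl i)) := by
  obtain ⟨S, -, rfl | rfl⟩ := hg
  · exact eS_comm_pl s.cls M S hi
  · exact (M.mem _ (plane_pt hi)).2.2.mul_left (eS_comm_pl s.cls M S hi)

theorem E_comm {g k : G} (hg : g ∈ E s M) (hk : k ∈ E s M) : Commute g k := by
  have key : ∀ S, Commute g (eS M S) := fun S =>
    (el_commute_of M fun x hx => by
      obtain ⟨i, hi, rfl⟩ := bas_plane (subW_sub bas S x hx)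
      exact (E_comm_pl s M hg hi).symm).symm
  obtain ⟨T, -, rfl | rfl⟩ := hk
  · exact key T
  · exact (E_comm_a s M hg).mul_right (key T)

theorem E_sq {g : G} (hg : g ∈ E s M) : g * g = 1 := by
  obtain ⟨S, -, rfl | rfl⟩ := hg
  · rw [eS_mul s.cls, Nat.xor_self, eS_zero s.cls]
  · rw [(eS_comm_a s.cls M S).mul_mul_mul_comm, sq s, eS_mul s.cls, Nat.xor_self, eS_zero s.cls,
      one_mul]

/-- The chosen elements outside the plane group. -/
def u (M : Model D a) (j : ℕ) : G := el M (word j)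

theorem u_conj {j i : ℕ} (hj : j < 64) (hi : i < 21) :
    u M j * M.pt (pl i) * (u M j)⁻¹ = M.pt (pl (perm j i)) := by
  rw [u, (el_conj s.cls M (word_pt hj) (plane_pt hi)).2, (perm_spec hj hi).2]

theorem u_comm_a {j : ℕ} (hj : j < 64) : Commute (u M j) a := el_commute M (word_pt hj)

theorem u_conj_sub {j : ℕ} (hj : j < 64) : ∀ (l : List ℕ) (S : ℕ), (∀ i ∈ l, i < 21) →
    Eqa a (u M j * el M (subW (l.map pl) S) * (u M j)⁻¹) (eS M (linW j l S))
  | [], S, _ => by simp [subW, linW, el, eS_zero s.cls, Eqa.refl]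
  | i :: l, S, hl => by
    have hi := hl i List.mem_cons_self
    have ih := u_conj_sub hj l (S >>> 1) fun x hx => hl x (List.mem_cons_of_mem _ hx)
    rw [List.map_cons, subW, linW]
    cases S.testBit 0
    · exact ih
    · simp only [cond_true, el]
      rw [show u M j * (el M (subW (l.map pl) (S >>> 1)) * M.pt (pl i)) * (u M j)⁻¹ =
        (u M j * el M (subW (l.map pl) (S >>> 1)) * (u M j)⁻¹) * (u M j * M.pt (pl i) * (u M j)⁻¹) by
        simp [mul_assoc], u_conj s M hj hi]
      rw [Nat.xor_comm, ← eS_mul s.cls]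
      exact (ih.mul_right _).trans (sq s)
        ((eS_vec s M (perm_spec hj hi).1).mul_left (eS_comm_a s.cls M _))

theorem u_conj_eS {j : ℕ} (hj : j < 64) (S : ℕ) :
    Eqa a (u M j * eS M S * (u M j)⁻¹) (eS M (linW j basIdx S)) := by
  have := u_conj_sub s M hj basIdx S fun i hi => idx_lt hi
  rwa [bas_ok.1] at this

theorem u_normal {j : ℕ} (hj : j < 64) {g : G} (hg : g ∈ E s M) : u M j * g * (u M j)⁻¹ ∈ E s M := by
  have key : ∀ S, u M j * eS M S * (u M j)⁻¹ ∈ E s M := fun S =>
    ⟨_, linW_lt hj basIdx S fun i hi => idx_lt hi, u_conj_eS s M hj S⟩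
  obtain ⟨S, -, rfl | rfl⟩ := hg
  · exact key S
  · rw [show u M j * (a * eS M S) * (u M j)⁻¹ = a * (u M j * eS M S * (u M j)⁻¹) by
      rw [← mul_assoc (u M j), (u_comm_a s M hj).eq]; simp [mul_assoc]]
    exact mul_mem (a_mem_E s M) (key S)

/-- The Sylow subgroup. -/
def P : Subgroup G :=
  Subgroup.closure ((E s M : Set G) ∪ {g | ∃ k < 6, el M (gens.getD k []) = g})

/-- Its members. -/
def Sig : Set G := {g | ∃ e ∈ E s M, ∃ j < 64, g = e * u M j}

theorem gen_mul_u {k j : ℕ} (hk : k < 6) (hj : j < 64) : el M (gens.getD k []) * u M j ∈ Sig s M := by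
  have h := closing_ok
  simp only [List.all_eq_true, List.mem_range, Bool.and_eq_true] at h
  obtain ⟨⟨h1, h2⟩, h3⟩ := h j hj k hk
  obtain ⟨m, hm⟩ : ∃ m, m = (closing.getD j []).getD k (0, 0) := ⟨_, rfl⟩
  rw [← hm] at h1 h2 h3
  have := eqa_of_act s M (v := word j ++ gens.getD k []) (w := word m.1 ++ subW bas m.2)
    (by rw [List.all_append, word_pt hj, gens_pt hk]; rfl)
    (by rw [List.all_append, word_pt (Nat.le_of_ble_eq_true h1), subW_bas_pt]; rfl)
    fun q hq => Nat.eq_of_beq_eq_true (h3 q hq)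
  rw [el_append, el_append] at this
  have hS := eS_mem_E s M (Nat.le_of_ble_eq_true h2)
  rcases this with e | e
  · exact ⟨_, hS, m.1, Nat.le_of_ble_eq_true h1, e⟩
  · exact ⟨_, mul_mem (a_mem_E s M) hS, m.1, Nat.le_of_ble_eq_true h1,
      e.trans (mul_assoc a _ _).symm⟩

theorem u_zero : u M 0 = 1 := by rw [u, bas_ok.2.2]; rfl

theorem gen_normal {k : ℕ} (hk : k < 6) {g : G} (hg : g ∈ E s M) :
    el M (gens.getD k []) * g * (el M (gens.getD k []))⁻¹ ∈ E s M := by
  obtain ⟨e, he, j, hj, hx⟩ := gen_mul_u s M hk (show 0 < 64 by norm_num)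
  rw [u_zero s, mul_one] at hx
  rw [hx, show e * u M j * g * (e * u M j)⁻¹ = e * (u M j * g * (u M j)⁻¹) * e⁻¹ by simp [mul_assoc]]
  exact mul_mem (mul_mem he (u_normal s M hj hg)) (inv_mem he)

theorem sig_eq : (P s M : Set G) = Sig s M := by
  refine Set.Subset.antisymm ?_ ?_
  · intro g hg
    have hg' : g ∈ Submonoid.closure ((E s M : Set G) ∪ {g | ∃ k < 6, el M (gens.getD k []) = g}) := by
      rw [← Subgroup.closure_toSubmonoid_of_finite]; exact hg
    refine Submonoid.closure_induction_left (motive := fun x _ => x ∈ Sig s M) ?_ ?_ hg'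
    · exact ⟨1, one_mem _, 0, by norm_num, by rw [u_zero s, one_mul]⟩
    · rintro x (hx | ⟨k, hk, rfl⟩) y - ⟨e, he, j, hj, rfl⟩
      · exact ⟨x * e, mul_mem hx he, j, hj, (mul_assoc x e _).symm⟩
      · obtain ⟨e', he', l, hl, hx⟩ := gen_mul_u s M hk hj
        refine ⟨_, mul_mem (gen_normal s M hk he) he', l, hl, ?_⟩
        rw [mul_assoc (el M (gens.getD k []) * e * _) e', ← hx]
        simp [mul_assoc]
  · rintro _ ⟨e, he, j, hj, rfl⟩
    refine mul_mem (Subgroup.subset_closure (Or.inl he)) ?_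
    have h := code_ok
    simp only [List.all_eq_true, List.mem_range] at h
    have key : ∀ l : List ℕ, (∀ g ∈ l, g < 6) → el M (l.flatMap fun g => gens.getD g []) ∈ P s M := by
      intro l
      induction l with
      | nil => intro _; exact one_mem _
      | cons g l ih =>
        intro hl
        rw [List.flatMap_cons, el_append]
        exact mul_mem (ih fun x hx => hl x (List.mem_cons_of_mem _ hx))
          (Subgroup.subset_closure (Or.inr ⟨g, hl g List.mem_cons_self, rfl⟩))
    exact key _ fun g hg => Nat.le_of_ble_eq_true (h j hj g hg)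

theorem E_le : E s M ≤ P s M := fun g hg => Subgroup.subset_closure (Or.inl hg)

theorem P_le : P s M ≤ Subgroup.centralizer ({a} : Set G) := by
  refine (Subgroup.closure_le _).mpr ?_
  rintro g (hg | ⟨k, hk, rfl⟩) <;> rw [SetLike.mem_coe, Subgroup.mem_centralizer_singleton_iff]
  · exact (E_comm_a s M hg).eq
  · exact (el_commute M (gens_pt hk)).eq

theorem sig_conj {e : G} (he : e ∈ E s M) {j i : ℕ} (hj : j < 64) (hi : i < 21) :
    e * u M j * M.pt (pl i) * (e * u M j)⁻¹ = M.pt (pl (perm j i)) := by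
  rw [show e * u M j * M.pt (pl i) * (e * u M j)⁻¹ = e * (u M j * M.pt (pl i) * (u M j)⁻¹) * e⁻¹ by
    simp [mul_assoc], u_conj s M hj hi, conj_self_eq (E_comm_pl s M he (perm_spec hj hi).1)]

theorem sig_unique {e e' : G} (he : e ∈ E s M) (he' : e' ∈ E s M) {j k : ℕ} (hj : j < 64) (hk : k < 64)
    (h : e * u M j = e' * u M k) : j = k :=
  perm_eq_iff hj hk fun i hi => pl_inj (perm_spec hj hi).1 (perm_spec hk hi).1
    (M.inj _ _ (plane_pt (perm_spec hj hi).1) (plane_pt (perm_spec hk hi).1)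
      (by rw [← sig_conj s M he hj hi, h, sig_conj s M he' hk hi]))

theorem card_P : Nat.card ↥(P s M) = 2 ^ 16 := by
  classical
  let f : Bool × Fin 512 × Fin 64 → G := fun p => cond p.1 a 1 * eS M p.2.1 * u M p.2.2
  have hmem : ∀ p : Bool × Fin 512, cond p.1 a 1 * eS M p.2 ∈ E s M := fun p => by
    obtain ⟨b, S⟩ := p
    refine mul_mem ?_ (eS_mem_E s M S.2)
    cases b
    exacts [one_mem _, a_mem_E s M]
  have hinj : Function.Injective f := by
    rintro ⟨b, S, j⟩ ⟨b', T, k⟩ e
    obtain rfl : j = k := Fin.ext (sig_unique s M (hmem (b, S)) (hmem (b', T)) j.2 k.2 e)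
    have e' := mul_right_cancel e
    have hST : (S : ℕ) = T := by
      refine eS_inj s M S.2 T.2 ?_
      cases b <;> cases b' <;> simp only [cond_true, cond_false, one_mul] at e'
      · exact Or.inl e'
      · exact Or.inr e'
      · exact Or.inr (by rw [← e', ← mul_assoc, sq s, one_mul])
      · exact Or.inl (mul_left_cancel e')
    obtain rfl : S = T := Fin.ext hST
    have e'' := mul_right_cancel e'
    have ha : a ≠ 1 := fun k => by
      have := s.cls.1.1 a s.mem
      rw [k, orderOf_one] at this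
      omega
    cases b <;> cases b' <;> simp_all
  have hrange : (P s M : Set G) = Set.range f := by
    rw [sig_eq]
    refine Set.Subset.antisymm ?_ ?_
    · rintro _ ⟨e, ⟨S, hS, he⟩, j, hj, rfl⟩
      rcases he with rfl | rfl
      · exact ⟨(false, ⟨S, hS⟩, ⟨j, hj⟩), by simp [f]⟩
      · exact ⟨(true, ⟨S, hS⟩, ⟨j, hj⟩), by simp [f]⟩
    · rintro _ ⟨⟨b, S, j⟩, rfl⟩
      exact ⟨_, hmem (b, S), j, j.2, rfl⟩
  rw [show Nat.card ↥(P s M) = Nat.card ↥(Set.range f) from Nat.card_congr (Equiv.setCongr hrange),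
    Nat.card_range_of_injective hinj]
  simp

theorem card_E_le : Nat.card ↥(E s M) ≤ 1024 := by
  classical
  let f : Bool × Fin 512 → ↥(E s M) := fun p => ⟨cond p.1 a 1 * eS M p.2, mul_mem (by
    cases p.1
    exacts [one_mem _, a_mem_E s M]) (eS_mem_E s M p.2.2)⟩
  have hf : Function.Surjective f := by
    rintro ⟨g, S, hS, rfl | rfl⟩
    · exact ⟨(false, ⟨S, hS⟩), Subtype.ext (by simp [f])⟩
    · exact ⟨(true, ⟨S, hS⟩), Subtype.ext (by simp [f])⟩
  have := Nat.card_le_card_of_surjective f hf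
  simpa using this

theorem card_E_ge : 1024 ≤ Nat.card ↥(E s M) := by
  classical
  let f : Bool × Fin 512 → ↥(E s M) := fun p => ⟨cond p.1 a 1 * eS M p.2, mul_mem (by
    cases p.1
    exacts [one_mem _, a_mem_E s M]) (eS_mem_E s M p.2.2)⟩
  have hf : Function.Injective f := by
    rintro ⟨b, S⟩ ⟨b', T⟩ e
    have e' : cond b a 1 * eS M S = cond b' a 1 * eS M T := congrArg Subtype.val e
    have hST : (S : ℕ) = T := by
      refine eS_inj s M S.2 T.2 ?_
      cases b <;> cases b' <;> simp only [cond_true, cond_false, one_mul] at e'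
      · exact Or.inl e'
      · exact Or.inr e'
      · exact Or.inr (by rw [← e', ← mul_assoc, sq s, one_mul])
      · exact Or.inl (mul_left_cancel e')
    obtain rfl : S = T := Fin.ext hST
    have ha : a ≠ 1 := fun k => by
      have := s.cls.1.1 a s.mem
      rw [k, orderOf_one] at this
      omega
    cases b <;> cases b' <;> simp_all
  have := Nat.card_le_card_of_injective f hf
  simpa using this

include M in
theorem exists_model_sylow {T : Subgroup G} (hT : T ≤ Subgroup.centralizer ({a} : Set G))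
    (hcard : Nat.card ↥T = 2 ^ 16) : ∃ M' : Model D a, P s M' = T := by
  haveI : Fact (Nat.Prime 2) := ⟨Nat.prime_two⟩
  let H := Subgroup.centralizer ({a} : Set G)
  have hfac : (2 * 9196830720).factorization 2 = 16 := by
    rw [show 2 * 9196830720 = 2 ^ 16 * 280665 by norm_num, Nat.factorization_mul (by norm_num) (by norm_num),
      Finsupp.add_apply, Nat.prime_two.factorization_pow, Nat.factorization_eq_zero_of_not_dvd (by norm_num)]
    simp
  have mk : ∀ K : Subgroup G, K ≤ H → Nat.card ↥K = 2 ^ 16 → ∃ Q : Sylow 2 ↥H, (Q : Subgroup ↥H) = K.subgroupOf H := by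
    intro K hK hc
    refine ⟨Sylow.ofCard (K.subgroupOf H) ?_, rfl⟩
    rw [Nat.card_congr (Subgroup.subgroupOfEquivOfLe hK).toEquiv, hc, s.cen, hfac]
  obtain ⟨Q, hQ⟩ := mk (P s M) (P_le s M) (card_P s M)
  obtain ⟨R, hR⟩ := mk T hT hcard
  obtain ⟨g, hg⟩ := MulAction.exists_smul_eq ↥H Q R
  have hga : Commute (g : G) a := Subgroup.mem_centralizer_singleton_iff.mp g.2
  refine ⟨M.conjBy s.cls g hga, ?_⟩
  have hmap : ∀ x ∈ P s M, (g : G) * x * (g : G)⁻¹ ∈ T := by
    intro x hx
    have hxQ : (⟨x, P_le s M hx⟩ : ↥H) ∈ (Q : Subgroup ↥H) := by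
      rw [hQ, Subgroup.mem_subgroupOf]; exact hx
    have := Subgroup.smul_mem_pointwise_smul _ (MulAut.conj g) _ hxQ
    rw [← Sylow.pointwise_smul_def, ← Sylow.smul_def, hg, hR, Subgroup.mem_subgroupOf] at this
    simpa using this
  refine Subgroup.eq_of_le_of_card_ge ?_ (by rw [hcard, card_P])
  refine (Subgroup.closure_le _).mpr ?_
  rintro x (⟨S, hS, hx⟩ | ⟨k, hk, rfl⟩)
  · rw [eS, conjBy_el s.cls M hga] at hx
    have h1 := hmap _ (E_le s M (eS_mem_E s M hS))
    have ha := hmap _ (E_le s M (a_mem_E s M))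
    rw [conj_self_eq hga] at ha
    rcases hx with rfl | rfl
    · exact h1
    · exact mul_mem ha h1
  · rw [conjBy_el s.cls M hga]
    exact hmap _ (Subgroup.subset_closure (Or.inr ⟨k, hk, rfl⟩))

end Cfsg.Agent.Block.FischerTypes.M22Thompson
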